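import Mathlib.RingTheory.Nullstellensatz
import Mathlib.RingTheory.Ideal.KrullsHeightTheorem
import Mathlib.RingTheory.MvPolynomial.Homogeneous
import Mathlib.RingTheory.Polynomial.Basic
import Mathlib.FieldTheory.RatFunc.Basic
import Mathlib.FieldTheory.RatFunc.AsPolynomial
import Mathlib.RingTheory.Norm.Basic
import Mathlib.RingTheory.AlgebraicIndependent.AlgebraicClosure
import Groth.Prelude.Def_Curves

namespace Groth.Agent.Ci77
open MvPolynomial

universe u v

section AlgClosed
variable {k : Type u} [Field k]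

/-- kill the first `i` variables -/
noncomputable def killVars (n i : ℕ) : MvPolynomial (Fin n) k →ₐ[k] MvPolynomial (Fin n) k :=
  aeval fun j => if (j : ℕ) < i then 0 else X j

lemma killVars_comp (n : ℕ) {i j : ℕ} (h : i ≤ j) (p : MvPolynomial (Fin n) k) :
    killVars n j (killVars n i p) = killVars n j p := by
  have : (killVars (k := k) n j).comp (killVars n i) = killVars n j := by
    apply algHom_ext
    intro l
    simp only [killVars, AlgHom.comp_apply, aeval_X]
    split_ifs with h1 h2 <;> simp_all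
    omega
  exact AlgHom.congr_fun this p

lemma natCast_le_height_ker_killVars (n : ℕ) : ∀ i : ℕ, i ≤ n →
    (i : ℕ∞) ≤ (RingHom.ker (killVars (k := k) n i)).height
  | 0, _ => by simp
  | i + 1, hi => by
    have h0 := natCast_le_height_ker_killVars n i (by omega)
    have : (RingHom.ker (killVars (k := k) n i)).IsPrime := RingHom.ker_isPrime _
    have : (RingHom.ker (killVars (k := k) n (i+1))).IsPrime := RingHom.ker_isPrime _
    have hlt : RingHom.ker (killVars (k := k) n i) < RingHom.ker (killVars (k := k) n (i+1)) := by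
      refine lt_of_le_of_ne (fun p hp => ?_) (fun he => ?_)
      · rw [RingHom.mem_ker] at hp ⊢
        rw [← killVars_comp n (Nat.le_succ i), hp, map_zero]
      · have hX : (X ⟨i, by omega⟩ : MvPolynomial (Fin n) k) ∈ RingHom.ker (killVars (k := k) n (i+1)) := by
          rw [RingHom.mem_ker]; simp [killVars]
        rw [← he, RingHom.mem_ker] at hX
        simp [killVars] at hX
    have := Ideal.height_strict_mono_of_isPrime hlt
    push_cast
    exact le_trans (add_le_add_left h0 1) (Order.add_one_le_of_lt this)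

lemma ker_killVars_le (n : ℕ) :
    RingHom.ker (killVars (k := k) n n) ≤ RingHom.ker (eval (0 : Fin n → k)) := by
  intro p hp
  rw [RingHom.mem_ker] at hp ⊢
  have : (aeval (0 : Fin n → k)).comp (killVars (k := k) n n) = aeval (0 : Fin n → k) := by
    apply algHom_ext; intro l; simp [killVars]
  have := AlgHom.congr_fun this p
  rw [AlgHom.comp_apply, hp, map_zero] at this
  exact this.symm

theorem exists_common_zero [IsAlgClosed k] {n r : ℕ} (f : Fin r → MvPolynomial (Fin n) k)
    (h0 : ∀ ρ, eval (0 : Fin n → k) (f ρ) = 0) (hr : r < n) :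
    ∃ a : Fin n → k, a ≠ 0 ∧ ∀ ρ, eval a (f ρ) = 0 := by
  classical
  set m : Ideal (MvPolynomial (Fin n) k) := RingHom.ker (eval (0 : Fin n → k)) with hm
  have hmp : m.IsPrime := RingHom.ker_isPrime _
  have hle : Ideal.span (Set.range f) ≤ m := by
    rw [Ideal.span_le]; rintro _ ⟨ρ, rfl⟩; exact h0 ρ
  obtain ⟨P, hP, hPm⟩ := Ideal.exists_minimalPrimes_le hle
  have hPp : P.IsPrime := hP.1.1
  have hPr : P.height ≤ (r : ℕ∞) := by
    have hs : Set.range f = ↑(Finset.univ.image f) := by simp
    rw [hs] at hP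
    refine le_trans (Ideal.height_le_card_of_mem_minimalPrimes_span_finset hP) ?_
    exact_mod_cast le_trans (Finset.card_image_le) (by simp)
  have hne : P ≠ m := by
    intro he
    have h1 := natCast_le_height_ker_killVars (k := k) n n le_rfl
    have h2 : (RingHom.ker (killVars (k := k) n n)).height ≤ m.height :=
      Ideal.height_mono (ker_killVars_le n)
    rw [← he] at h2
    have : (n : ℕ∞) ≤ r := h1.trans (h2.trans hPr)
    exact absurd (by exact_mod_cast this) (not_le.2 hr)
  by_contra hno
  push Not at hno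
  apply hne
  refine le_antisymm hPm (fun p hp => ?_)
  have hV : zeroLocus k P ⊆ {0} := by
    intro a ha
    by_contra ha0
    obtain ⟨ρ, hρ⟩ := hno a ha0
    exact hρ (ha (f ρ) (hP.1.2 (Ideal.subset_span ⟨ρ, rfl⟩)))
  have : p ∈ vanishingIdeal k (zeroLocus k P) := by
    intro a ha
    rw [hV ha]
    exact hp
  rwa [vanishingIdeal_zeroLocus_eq_radical, hPp.radical] at this

end AlgClosed

section Systems

/-- `IsCi` for arbitrary finite index types. -/
theorem isCi_apply {K : Type u} [Field K] {i : ℕ} (hK : Curves.IsCi K i) {P σ : Type*}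
    [Fintype P] [Fintype σ] (f : P → MvPolynomial σ K) (d : P → ℕ)
    (hf : ∀ ρ, (f ρ).IsHomogeneous (d ρ)) (hd : ∀ ρ, 0 < d ρ)
    (hlt : (∑ ρ, d ρ ^ i) < Fintype.card σ) :
    ∃ a : σ → K, a ≠ 0 ∧ ∀ ρ, eval a (f ρ) = 0 := by
  classical
  let eP := Fintype.equivFin P
  let eσ := Fintype.equivFin σ
  obtain ⟨a, ha, h⟩ := hK (Fintype.card P) (Fintype.card σ)
    (fun q => rename eσ (f (eP.symm q))) (fun q => d (eP.symm q))
    (fun q => (hf _).rename_isHomogeneous) (fun q => hd _)
    (by rwa [eP.symm.sum_comp (fun ρ => d ρ ^ i)])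
  refine ⟨a ∘ eσ, fun h0 => ha ?_, fun ρ => ?_⟩
  · funext x; simpa using congr_fun h0 (eσ.symm x)
  · have := h (eP ρ)
    simpa [eval_rename] using this

variable {R : Type*} [CommRing R] {K : Type*} [CommRing K] [Algebra K R] {σ τ : Type*}

/-- Apply a linear map to the coefficients of a polynomial. -/
noncomputable def mapCoeff (φ : R →ₗ[K] K) : MvPolynomial τ R →+ MvPolynomial τ K :=
  (Finsupp.mapRange.addMonoidHom φ.toAddMonoidHom :
    ((τ →₀ ℕ) →₀ R) →+ ((τ →₀ ℕ) →₀ K)).comp AddMonoidAlgebra.coeffAddEquiv.toAddMonoidHom |>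
    fun h => AddMonoidAlgebra.coeffAddEquiv.symm.toAddMonoidHom.comp h

lemma coeff_mapCoeff (φ : R →ₗ[K] K) (g : MvPolynomial τ R) (m : τ →₀ ℕ) :
    coeff m (mapCoeff φ g) = φ (coeff m g) := rfl

lemma mapCoeff_monomial (φ : R →ₗ[K] K) (m : τ →₀ ℕ) (c : R) :
    mapCoeff φ (monomial m c) = monomial m (φ c) := by
  classical
  ext m'
  rw [coeff_mapCoeff, coeff_monomial, coeff_monomial]
  split_ifs <;> simp

lemma eval_mapCoeff (φ : R →ₗ[K] K) (g : MvPolynomial τ R) (a : τ → K) :
    eval a (mapCoeff φ g) = φ (eval (fun x => algebraMap K R (a x)) g) := by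
  induction g using MvPolynomial.induction_on' with
  | monomial m c =>
    rw [mapCoeff_monomial, eval_monomial, eval_monomial]
    have : (m.prod fun x e => algebraMap K R (a x) ^ e) = algebraMap K R (m.prod fun x e => a x ^ e) := by
      simp [Finsupp.prod, map_prod, map_pow]
    rw [this, mul_comm c, ← Algebra.smul_def, map_smul, smul_eq_mul, mul_comm]
  | add p q hp hq => simp [hp, hq]

lemma isHomogeneous_mapCoeff (φ : R →ₗ[K] K) {g : MvPolynomial τ R} {d : ℕ}
    (hg : g.IsHomogeneous d) : (mapCoeff φ g).IsHomogeneous d := by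
  intro m hm
  apply hg
  intro h
  apply hm
  rw [coeff_mapCoeff, h, map_zero]

variable {Λ : Type*} [Fintype Λ]

/-- Substitute a combination of the `b l` with undetermined coefficients into each variable. -/
noncomputable def substBasis (b : Λ → R) : MvPolynomial σ R →ₐ[R] MvPolynomial (σ × Λ) R :=
  aeval fun j => ∑ l, C (b l) * X (j, l)

lemma eval_substBasis (b : Λ → R) (f : MvPolynomial σ R) (a : σ × Λ → R) :
    eval a (substBasis b f) = eval (fun j => ∑ l, b l * a (j, l)) f := by
  induction f using MvPolynomial.induction_on with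
  | C r => simp [substBasis]
  | add p q hp hq => simp [hp, hq]
  | mul_X p j hp => simp [substBasis] at hp ⊢; simp [hp]

lemma isHomogeneous_substBasis (b : Λ → R) {f : MvPolynomial σ R} {d : ℕ} (hf : f.IsHomogeneous d) :
    (substBasis b f).IsHomogeneous d := by
  have := hf.aeval (R := R) (fun j => ∑ l, C (b l) * X (j, l) : σ → MvPolynomial (σ × Λ) R)
    (n := 1) (fun j => IsHomogeneous.sum _ _ _ fun l _ => isHomogeneous_C_mul_X _ _)
  simpa [substBasis] using this

/-- The forms obtained by restriction of scalars. -/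
noncomputable def scalarForm (b : Λ → R) (φ : R →ₗ[K] K) (f : MvPolynomial σ R) :
    MvPolynomial (σ × Λ) K := mapCoeff φ (substBasis b f)

lemma isHomogeneous_scalarForm (b : Λ → R) (φ : R →ₗ[K] K) {f : MvPolynomial σ R} {d : ℕ}
    (hf : f.IsHomogeneous d) : (scalarForm b φ f).IsHomogeneous d :=
  isHomogeneous_mapCoeff φ (isHomogeneous_substBasis b hf)

lemma eval_scalarForm (b : Λ → R) (φ : R →ₗ[K] K) (f : MvPolynomial σ R) (a : σ × Λ → K) :
    eval a (scalarForm b φ f) = φ (eval (fun j => ∑ l, a (j, l) • b l) f) := by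
  rw [scalarForm, eval_mapCoeff, eval_substBasis]
  simp [Algebra.smul_def, mul_comm]

end Systems

theorem isCi_of_finite {K : Type u} [Field K] {L : Type v} [Field L] [Algebra K L]
    [FiniteDimensional K L] {i : ℕ} (hK : Curves.IsCi K i) : Curves.IsCi L i := by
  classical
  intro r n f d hf hd hlt
  let b := Module.finBasis K L
  obtain ⟨a, ha, h⟩ := isCi_apply hK
    (fun p : Fin r × Fin (Module.finrank K L) => scalarForm (⇑b) (b.coord p.2) (f p.1))
    (fun p => d p.1) (fun p => isHomogeneous_scalarForm _ _ (hf _)) (fun p => hd _)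
    (by simp [Fintype.sum_prod_type, ← Finset.mul_sum]
        rw [mul_comm n]
        exact Nat.mul_lt_mul_of_pos_left hlt Module.finrank_pos)
  refine ⟨fun j => ∑ l, a (j, l) • b l, fun h0 => ha ?_, fun ρ => ?_⟩
  · funext ⟨j, l⟩
    exact Fintype.linearIndependent_iff.1 b.linearIndependent _ (congr_fun h0 j) l
  · rw [← b.forall_coord_eq_zero_iff]
    intro l
    have := h (ρ, l)
    rwa [eval_scalarForm] at this

theorem isCi_of_ringEquiv {K : Type u} [Field K] {L : Type v} [Field L] (e : K ≃+* L) {i : ℕ}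
    (hK : Curves.IsCi K i) : Curves.IsCi L i := by
  letI := e.toRingHom.toAlgebra
  have : FiniteDimensional K L := Module.Finite.of_surjective (Algebra.linearMap K L) e.surjective
  exact isCi_of_finite hK

theorem isCi_of_isAlgebraic {K : Type u} [Field K] {L : Type v} [Field L] [Algebra K L]
    [Algebra.IsAlgebraic K L] {i : ℕ} (hK : Curves.IsCi K i) : Curves.IsCi L i := by
  classical
  intro r n f d hf hd hlt
  let S : Set L := ⋃ ρ, ↑(f ρ).coeffs
  have hS : S.Finite := Set.finite_iUnion fun ρ => Finset.finite_toSet _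
  let F := IntermediateField.adjoin K S
  have : FiniteDimensional K F := by
    have := hS.to_subtype
    exact IntermediateField.finiteDimensional_adjoin fun x _ => (Algebra.IsAlgebraic.isAlgebraic x).isIntegral
  have key : ∀ ρ, ∃ g : MvPolynomial (Fin n) F, map (algebraMap F L) g = f ρ := by
    intro ρ
    refine mem_range_map_iff_coeffs_subset.2 ?_
    intro x hx
    exact ⟨⟨x, IntermediateField.subset_adjoin _ _ (Set.mem_iUnion.2 ⟨ρ, hx⟩)⟩, rfl⟩
  choose g hg using key
  have hg' : ∀ ρ, (g ρ).IsHomogeneous (d ρ) := fun ρ =>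
    IsHomogeneous.of_map (algebraMap F L).injective (hg ρ ▸ hf ρ)
  obtain ⟨a, ha, h⟩ := isCi_of_finite (L := F) hK r n g d hg' hd hlt
  refine ⟨fun j => (a j : L), fun h0 => ha ?_, fun ρ => ?_⟩
  · funext j; exact Subtype.ext (congr_fun h0 j)
  · rw [← hg ρ, eval_map]
    have := congr_arg (algebraMap F L) (h ρ)
    rw [map_zero, eval₂_comp] at this
    simpa [Function.comp_def] using this

section RatFunc
variable {K : Type u} [Field K]
open scoped Polynomial

lemma natDegree_eval_le {n : ℕ} {f : MvPolynomial (Fin n) K[X]} {d c s : ℕ} (hf : f.IsHomogeneous d)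
    (hc : ∀ m, (coeff m f).natDegree ≤ c) (x : Fin n → K[X]) (hx : ∀ j, (x j).natDegree ≤ s) :
    (eval x f).natDegree ≤ c + d * s := by
  rw [eval_eq]
  refine Polynomial.natDegree_sum_le_of_forall_le _ _ fun m hm => ?_
  refine le_trans Polynomial.natDegree_mul_le (add_le_add (hc m) ?_)
  refine le_trans (Polynomial.natDegree_prod_le _ _) ?_
  rw [hf.degree_eq_sum_deg_support hm, Finset.sum_mul]
  refine Finset.sum_le_sum fun j _ => ?_
  exact le_trans Polynomial.natDegree_pow_le (Nat.mul_le_mul_left _ (hx j))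

theorem isCi_polynomial_zero {i : ℕ} (hK : Curves.IsCi K i) {r n : ℕ}
    (f : Fin r → MvPolynomial (Fin n) K[X]) (d : Fin r → ℕ) (hf : ∀ ρ, (f ρ).IsHomogeneous (d ρ))
    (hd : ∀ ρ, 0 < d ρ) (hlt : ∑ ρ, d ρ ^ (i + 1) < n) :
    ∃ a : Fin n → K[X], a ≠ 0 ∧ ∀ ρ, eval a (f ρ) = 0 := by
  classical
  let c : ℕ := Finset.univ.sup fun ρ => (f ρ).support.sup fun m => (coeff m (f ρ)).natDegree
  have hc : ∀ ρ m, (coeff m (f ρ)).natDegree ≤ c := by
    intro ρ m
    by_cases hm : m ∈ (f ρ).support
    · exact le_trans (Finset.le_sup (f := fun m => (coeff m (f ρ)).natDegree) hm)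
        (Finset.le_sup (f := fun ρ => (f ρ).support.sup fun m => (coeff m (f ρ)).natDegree) (Finset.mem_univ ρ))
    · simp [notMem_support_iff.1 hm]
  obtain ⟨s, hs⟩ : ∃ s : ℕ, ∑ ρ, (c + d ρ * s + 1) * d ρ ^ i < n * (s + 1) := by
    refine ⟨∑ ρ, (c + 1) * d ρ ^ i, ?_⟩
    generalize hS : ∑ ρ, (c + 1) * d ρ ^ i = S
    have : ∑ ρ, (c + d ρ * S + 1) * d ρ ^ i = S + S * ∑ ρ, d ρ ^ (i + 1) := by
      conv_rhs => enter [1]; rw [← hS]
      rw [Finset.mul_sum, ← Finset.sum_add_distrib]
      refine Finset.sum_congr rfl fun ρ _ => ?_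
      ring
    rw [this]
    have h1 := Nat.mul_le_mul_left S (show ∑ ρ, d ρ ^ (i + 1) + 1 ≤ n from hlt)
    rw [Nat.mul_add, Nat.mul_one] at h1
    rw [Nat.mul_add, Nat.mul_one, Nat.mul_comm n S]
    omega
  obtain ⟨a, ha, h⟩ := isCi_apply hK
    (fun p : (ρ : Fin r) × Fin (c + d ρ * s + 1) =>
      scalarForm (fun l : Fin (s+1) => (Polynomial.X : K[X]) ^ (l : ℕ)) (Polynomial.lcoeff K p.2) (f p.1))
    (fun p => d p.1) (fun p => isHomogeneous_scalarForm _ _ (hf _)) (fun p => hd _)
    (by simpa [Fintype.sum_sigma] using hs)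
  refine ⟨fun j => ∑ l, a (j, l) • (Polynomial.X : K[X]) ^ (l : ℕ), fun h0 => ha ?_, fun ρ => ?_⟩
  · funext ⟨j, l⟩
    have := congr_arg (fun p => Polynomial.coeff p (l : ℕ)) (congr_fun h0 j)
    simpa [Polynomial.finsetSum_coeff, Polynomial.coeff_X_pow, Fin.val_inj, Finset.sum_ite_eq] using this
  · ext m
    by_cases hm : m < c + d ρ * s + 1
    · have := h ⟨ρ, ⟨m, hm⟩⟩
      rw [eval_scalarForm] at this
      simpa using this
    · rw [Polynomial.coeff_zero]
      apply Polynomial.coeff_eq_zero_of_natDegree_lt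
      refine lt_of_le_of_lt (natDegree_eval_le (hf ρ) (hc ρ) _ (s := s) fun j => ?_) (by omega)
      refine Polynomial.natDegree_sum_le_of_forall_le _ _ fun l _ => ?_
      refine le_trans (Polynomial.natDegree_smul_le _ _) ?_
      rw [Polynomial.natDegree_X_pow]; omega

theorem isCi_succ_ratFunc {i : ℕ} (hK : Curves.IsCi K i) : Curves.IsCi (RatFunc K) (i + 1) := by
  classical
  intro r n f d hf hd hlt
  have key : ∀ ρ, ∃ (b : K[X]) (g : MvPolynomial (Fin n) K[X]), b ≠ 0 ∧
      map (algebraMap K[X] (RatFunc K)) g = C (algebraMap K[X] (RatFunc K) b) * f ρ := by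
    intro ρ
    obtain ⟨b, hb⟩ := IsLocalization.exist_integer_multiples (nonZeroDivisors K[X]) (f ρ).support
      (fun m => coeff m (f ρ))
    have : C (algebraMap K[X] (RatFunc K) b) * f ρ ∈
        (map (algebraMap K[X] (RatFunc K)) : MvPolynomial (Fin n) K[X] →+* _).range := by
      refine mem_range_map_iff_coeffs_subset.2 ?_
      intro x hx
      obtain ⟨m, hm, rfl⟩ := mem_coeffs_iff.1 hx
      rw [coeff_C_mul]
      by_cases hm' : m ∈ (f ρ).support
      · obtain ⟨y, hy⟩ := hb m hm'
        exact ⟨y, by rw [hy]; simp [Algebra.smul_def]⟩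
      · exact ⟨0, by simp [notMem_support_iff.1 hm']⟩
    obtain ⟨g, hg⟩ := this
    exact ⟨b, g, nonZeroDivisors.ne_zero b.2, hg⟩
  choose b g hb hg using key
  have hg' : ∀ ρ, (g ρ).IsHomogeneous (d ρ) := fun ρ =>
    IsHomogeneous.of_map (RatFunc.algebraMap_injective K) (hg ρ ▸ (hf ρ).C_mul _)
  obtain ⟨a, ha, h⟩ := isCi_polynomial_zero hK g d hg' hd hlt
  refine ⟨fun j => algebraMap _ _ (a j), fun h0 => ha ?_, fun ρ => ?_⟩
  · funext j; exact RatFunc.algebraMap_injective K (by simpa using congr_fun h0 j)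
  · have := congr_arg (algebraMap K[X] (RatFunc K)) (h ρ)
    rw [map_zero, ← eval₂_id, eval₂_comp_left, RingHom.comp_id, ← eval_map, hg ρ, map_mul,
      eval_C, mul_eq_zero] at this
    exact this.resolve_left (by simpa using hb ρ)

end RatFunc


theorem isCi_zero_of_isAlgClosed (k : Type*) [Field k] [IsAlgClosed k] : Curves.IsCi k 0 := by
  intro r n f d hf hd hlt
  refine exists_common_zero f (fun ρ => ?_) (by simpa using hlt)
  rw [eval_zero]
  exact (hf ρ).coeff_eq_zero (by simpa using (hd ρ).ne)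

theorem isCi_adjoin_algebraicIndependent {k : Type u} [Field k] [IsAlgClosed k] : ∀ (j : ℕ)
    {K : Type u} [Field K] [Algebra k K] (x : Fin j → K), AlgebraicIndependent k x →
    Curves.IsCi (IntermediateField.adjoin k (Set.range x)) j
  | 0, K, _, _, x, _ => by
    have h : IntermediateField.adjoin k (Set.range x) = ⊥ := by simp
    exact isCi_of_ringEquiv ((IntermediateField.botEquiv k K).symm.trans
      (IntermediateField.equivOfEq h.symm)).toRingEquiv (isCi_zero_of_isAlgClosed k)
  | j + 1, K, _, _, x, hx => by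
    let x' := x ∘ Fin.castSucc
    set F0 := IntermediateField.adjoin k (Set.range x') with hF0
    set t := x (Fin.last j)
    have hF : Curves.IsCi F0 j :=
      isCi_adjoin_algebraicIndependent j x' (hx.comp _ (Fin.castSucc_injective j))
    have ht : Transcendental F0 t := by
      rw [hF0, IntermediateField.transcendental_adjoin_iff]
      have := hx.transcendental_adjoin (s := Set.range Fin.castSucc) (i := Fin.last j) (by simp)
      rwa [← Set.range_comp] at this
    have heq : (IntermediateField.adjoin F0 {t}).restrictScalars k =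
        IntermediateField.adjoin k (Set.range x) := by
      rw [hF0, IntermediateField.adjoin_adjoin_left]
      congr 1
      ext y
      simp only [x', t, Set.mem_union, Set.mem_range, Set.mem_singleton_iff, Function.comp_apply]
      constructor
      · rintro (⟨i, rfl⟩ | rfl)
        · exact ⟨_, rfl⟩
        · exact ⟨_, rfl⟩
      · rintro ⟨i, rfl⟩
        induction i using Fin.lastCases with
        | last => exact Or.inr rfl
        | cast i => exact Or.inl ⟨i, rfl⟩
    refine isCi_of_ringEquiv ?_ (isCi_succ_ratFunc hF)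
    exact (RatFunc.algEquivOfTranscendental t ht).toRingEquiv.trans
      (IntermediateField.equivOfEq heq).toRingEquiv

theorem tsen_lang {k : Type u} [Field k] [IsAlgClosed k] {K : Type u} [Field K] [Algebra k K]
    {j : ℕ} (hj : Algebra.trdeg k K = j) : Curves.IsCi K j := by
  obtain ⟨s, hs⟩ := exists_isTranscendenceBasis k K
  have hc := hs.cardinalMk_eq_trdeg
  rw [hj] at hc
  obtain ⟨e⟩ : Nonempty (Fin j ≃ s) := by
    obtain ⟨e⟩ := Cardinal.eq.1 (hc.trans (by simp) : Cardinal.mk s = Cardinal.mk (ULift.{u} (Fin j)))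
    exact ⟨Equiv.ulift.symm.trans e.symm⟩
  have h2 := hs.comp_equiv e
  have := isCi_adjoin_algebraicIndependent j _ h2.1
  have := h2.isAlgebraic_field
  exact isCi_of_isAlgebraic (by assumption)

theorem isCr_of_finite {K : Type u} [Field K] {L : Type v} [Field L] [Algebra K L]
    [FiniteDimensional K L] (hK : Curves.IsCr K 1) : Curves.IsCr L 1 := by
  classical
  intro n d f hf hd hlt
  rw [pow_one] at hlt
  let b := Module.finBasis K L
  set e := Module.finrank K L
  let M : Matrix (Fin e) (Fin e) (MvPolynomial (Fin n × Fin e) K) :=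
    ∑ l, scalarForm (⇑b) (b.coord l) f • (Algebra.leftMulMatrix b (b l)).map C
  have hM : ∀ i j, (M i j).IsHomogeneous d := fun i j => by
    simp only [M, Matrix.sum_apply, Matrix.smul_apply, smul_eq_mul, Matrix.map_apply]
    refine IsHomogeneous.sum _ _ _ fun l _ => ?_
    simpa using (isHomogeneous_scalarForm _ _ hf).mul (isHomogeneous_C _ _)
  have hdet : M.det.IsHomogeneous (e * d) := by
    rw [Matrix.det_apply']
    refine IsHomogeneous.sum _ _ _ fun σ _ => ?_
    have := (isHomogeneous_C (Fin n × Fin e) ((Equiv.Perm.sign σ : ℤ) : K)).mul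
      (IsHomogeneous.prod Finset.univ (fun i => M (σ i) i) (fun _ => d) fun i _ => hM _ _)
    simpa using this
  let eσ := Fintype.equivFin (Fin n × Fin e)
  obtain ⟨a, ha, h⟩ := hK _ (e * d) (rename eσ M.det) hdet.rename_isHomogeneous
    (Nat.mul_pos Module.finrank_pos hd)
    (by simp only [pow_one, Fintype.card_prod, Fintype.card_fin]; rw [mul_comm n]
        exact Nat.mul_lt_mul_of_pos_left hlt Module.finrank_pos)
  rw [eval_rename] at h
  set a' := a ∘ eσ with ha'
  refine ⟨fun j => ∑ l, a' (j, l) • b l, fun h0 => ha ?_, ?_⟩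
  · funext z
    obtain ⟨⟨j, l⟩, rfl⟩ := eσ.surjective z
    exact Fintype.linearIndependent_iff.1 b.linearIndependent _ (congr_fun h0 j) l
  · rw [← Algebra.norm_eq_zero_iff_of_basis b, Algebra.norm_eq_matrix_det b, ← h, RingHom.map_det]
    congr 1
    set y := eval (fun j => ∑ l, a' (j, l) • b l) f
    conv_lhs => rw [← b.sum_repr y, map_sum]
    simp only [map_smul, M, map_sum]
    refine Finset.sum_congr rfl fun l _ => ?_
    ext i j
    simp [eval_scalarForm, y]

end Groth.Agent.Ci77
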