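import Groth.Agent.Ci77.Basic
import Groth.Agent.EGA4Alg4.IntegralDim
import Mathlib.AlgebraicGeometry.FunctionField
import Mathlib.AlgebraicGeometry.Morphisms.FiniteType
import Mathlib.RingTheory.NoetherNormalization
import Mathlib.RingTheory.KrullDimension.Polynomial

set_option autoImplicit false
open AlgebraicGeometry CategoryTheory

namespace Groth.Agent.Ci77

universe u v

theorem isCi_mono {K : Type*} [Field K] {i j : ℕ} (hij : i ≤ j) (h : Curves.IsCi K i) :
    Curves.IsCi K j := fun r n f d hf hd hlt =>
  h r n f d hf hd (lt_of_le_of_lt (Finset.sum_le_sum fun ρ _ => Nat.pow_le_pow_right (hd ρ) hij) hlt)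

theorem isCr_of_isCi {K : Type*} [Field K] {i : ℕ} (h : Curves.IsCi K i) : Curves.IsCr K i := by
  intro n d f hf hd hlt
  obtain ⟨a, ha, hz⟩ := h 1 n (fun _ => f) (fun _ => d) (fun _ => hf) (fun _ => hd) (by simpa using hlt)
  exact ⟨a, ha, hz 0⟩

/-- Lifting a ring map between domains to the fraction fields, when the map is integral. -/
theorem isCi_fraction_of_integral {k : Type u} [Field k] [IsAlgClosed k] {A K : Type u} [CommRing A]
    [IsDomain A] [Algebra k A] [Field K] [Algebra A K] [IsFractionRing A K] {s : ℕ}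
    (g : MvPolynomial (Fin s) k →ₐ[k] A) (hg : Function.Injective g) (hgi : g.toRingHom.IsIntegral) :
    Curves.IsCi K s := by
  let : Algebra k K := ((algebraMap A K).comp (algebraMap k A)).toAlgebra
  have : IsScalarTower k A K := .of_algebraMap_eq fun _ => rfl
  let φ : MvPolynomial (Fin s) k →ₐ[k] K := (IsScalarTower.toAlgHom k A K).comp g
  have hx : AlgebraicIndependent k fun i => φ (MvPolynomial.X i) := by
    rw [algebraicIndependent_iff_injective_aeval,
      show MvPolynomial.aeval (fun i => φ (MvPolynomial.X i)) = φ from (MvPolynomial.aeval_unique φ).symm]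
    exact (IsFractionRing.injective A K).comp hg
  have h0 := isCi_adjoin_algebraicIndependent s _ hx
  set E := IntermediateField.adjoin k (Set.range fun i => φ (MvPolynomial.X i))
  have hrange : ∀ p, φ p ∈ E := by
    intro p
    induction p using MvPolynomial.induction_on with
    | C a => rw [← MvPolynomial.algebraMap_eq, φ.commutes]; exact E.algebraMap_mem a
    | add p q hp hq => rw [map_add]; exact E.add_mem hp hq
    | mul_X p i hp => rw [map_mul]; exact E.mul_mem hp (IntermediateField.subset_adjoin _ _ ⟨i, rfl⟩)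
  have halg : ∀ a : A, IsAlgebraic E (algebraMap A K a) := by
    intro a
    obtain ⟨q, hq, hqa⟩ := hgi a
    let φE : MvPolynomial (Fin s) k →+* E := RingHom.codRestrict φ.toRingHom E hrange
    refine IsIntegral.isAlgebraic ⟨q.map φE, hq.map _, ?_⟩
    rw [Polynomial.eval₂_map]
    have h1 : (algebraMap E K).comp φE = (algebraMap A K).comp g.toRingHom := RingHom.ext fun _ => rfl
    rw [h1, ← Polynomial.hom_eval₂, hqa, map_zero]
  have : Algebra.IsAlgebraic E K := by
    refine ⟨fun x => ?_⟩
    obtain ⟨a, b, _, rfl⟩ := IsFractionRing.div_surjective A x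
    rw [div_eq_mul_inv]
    exact ((halg a).isIntegral.mul (halg b).isIntegral.inv).isAlgebraic
  exact isCi_of_isAlgebraic h0

theorem isCi_fraction_of_finiteType {k : Type u} [Field k] [IsAlgClosed k] {A K : Type u} [CommRing A]
    [IsDomain A] [Algebra k A] [Algebra.FiniteType k A] [Field K] [Algebra A K] [IsFractionRing A K]
    {d : ℕ} (hd : ringKrullDim A ≤ d) : Curves.IsCi K d := by
  obtain ⟨s, g, hinj, hfin⟩ := exists_finite_inj_algHom_of_fg k A
  have hsd : s ≤ d := by
    let : Algebra (MvPolynomial (Fin s) k) A := g.toRingHom.toAlgebra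
    have : Module.Finite (MvPolynomial (Fin s) k) A := hfin
    have h := EGA4Alg4.ringKrullDim_eq_of_integral (A := MvPolynomial (Fin s) k) (B := A) hinj
    rw [h, MvPolynomial.ringKrullDim_of_isNoetherianRing, ringKrullDim_eq_zero_of_field, zero_add,
      Nat.card_fin] at hd
    exact_mod_cast hd
  exact isCi_mono hsd (isCi_fraction_of_integral g hinj (RingHom.Finite.to_isIntegral hfin))

theorem isCi_functionField {k : Type u} [Field k] [IsAlgClosed k] (C : Scheme.{u}) [IsIntegral C]
    (f : C ⟶ Spec (CommRingCat.of k)) [LocallyOfFiniteType f] {d : ℕ}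
    (hd : topologicalKrullDim C ≤ d) : Curves.IsCi C.functionField d := by
  obtain ⟨U, hU, hx, -⟩ := exists_isAffineOpen_mem_and_subset (U := ⊤) (show genericPoint C ∈ (⊤ : C.Opens) from trivial)
  have : Nonempty U := ⟨⟨_, hx⟩⟩
  have hft : (f.appLE ⊤ U le_top).hom.FiniteType := f.finiteType_appLE (isAffineOpen_top _) hU le_top
  let φ : k →+* Γ(C, U) := (f.appLE ⊤ U le_top).hom.comp (Scheme.ΓSpecIso (CommRingCat.of k)).inv.hom
  have hφ : φ.FiniteType := hft.comp (RingHom.FiniteType.of_surjective _
    (Scheme.ΓSpecIso (CommRingCat.of k)).symm.commRingCatIsoToRingEquiv.surjective)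
  let : Algebra k Γ(C, U) := φ.toAlgebra
  have : Algebra.FiniteType k Γ(C, U) := hφ
  have := functionField_isFractionRing_of_isAffineOpen C U hU
  refine isCi_fraction_of_finiteType (k := k) (A := Γ(C, U)) ?_
  rw [← PrimeSpectrum.topologicalKrullDim_eq_ringKrullDim]
  refine le_trans (hU.fromSpec.isOpenEmbedding.isInducing.topologicalKrullDim_le) hd

end Groth.Agent.Ci77
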